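import Groth.Agent.Lib.InjHull.Matlis
import Groth.Agent.Lib.InjHull.Duality
import Groth.Agent.Lib.HLV27.Cofinite
import Groth.Agent.S0317
import Groth.Agent.S11681
import Mathlib

set_option autoImplicit false
open IsLocalRing Groth.Agent.CplLocH7 Groth.Agent.InjHullLib

universe u

namespace Groth.Agent.HSL27

theorem isArtinian_of_killed {R : Type u} [CommRing R] [IsNoetherianRing R] [IsLocalRing R]
    {X : Type u} [AddCommGroup X] [Module R X] [Module.Finite R X] (N : ℕ)
    (h : ∀ c ∈ maximalIdeal R ^ N, ∀ x : X, c • x = 0) : IsArtinian R X := by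
  obtain ⟨n, g, hg⟩ := Module.Finite.exists_fin (R := R) (M := X)
  let π : Fin n → ((R ⧸ maximalIdeal R ^ N) →ₗ[R] X) := fun i =>
    Submodule.liftQ _ ((LinearMap.id (R := R) (M := R)).smulRight (g i))
      (fun c hc => by simpa using h c hc (g i))
  haveI : IsArtinian R (R ⧸ maximalIdeal R ^ N) :=
    (isFiniteLength_iff_isNoetherian_isArtinian.1 (isFiniteLength_quotient (le_refl _))).2
  refine isArtinian_of_surjective (Fin n → R ⧸ maximalIdeal R ^ N)
    (∑ i, (π i).comp (LinearMap.proj i)) ?_
  rw [← LinearMap.range_eq_top, eq_top_iff, ← hg, Submodule.span_le]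
  rintro _ ⟨j, rfl⟩
  refine ⟨Pi.single j (Ideal.Quotient.mk _ 1), ?_⟩
  rw [LinearMap.sum_apply, Finset.sum_eq_single j (fun i _ hi => by simp [Pi.single_eq_of_ne hi])
    (fun h => absurd (Finset.mem_univ j) h)]
  simp only [LinearMap.comp_apply, LinearMap.proj_apply, Pi.single_eq_same]
  change (LinearMap.id (R := R) (M := R)).smulRight (g j) 1 = g j
  simp

/-- An antitone chain in a finite module killed by `J` stabilises at a minimal prime of `J`, up to
elements outside of this prime. -/
theorem exists_smul_mem_succ {B : Type u} [CommRing B] [IsNoetherianRing B]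
    {N : Type u} [AddCommGroup N] [Module B N] [Module.Finite B N]
    (J q : Ideal B) [q.IsPrime] (hq : q ∈ J.minimalPrimes) (hJ : ∀ b ∈ J, ∀ x : N, b • x = 0)
    (P : ℕ → Submodule B N) (hP : Antitone P) :
    ∃ i : ℕ, ∀ x ∈ P i, ∃ t : B, t ∉ q ∧ t • x ∈ P (i + 1) := by
  let Bq := Localization.AtPrime q
  let f := LocalizedModule.mkLinearMap q.primeCompl N
  haveI : Module.Finite Bq (LocalizedModule q.primeCompl N) :=
    Module.Finite.of_isLocalizedModule q.primeCompl (Rₚ := Bq) f
  have hrad := IsLocalization.AtPrime.radical_map_of_mem_minimalPrimes (A := Bq) q J hq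
  rw [IsLocalization.AtPrime.map_eq_maximalIdeal q Bq] at hrad
  obtain ⟨k, hk⟩ := Ideal.exists_pow_le_of_le_radical_of_fg hrad.ge (IsNoetherian.noetherian _)
  haveI : IsArtinian Bq (LocalizedModule q.primeCompl N) := by
    refine isArtinian_of_killed k fun c hc x => ?_
    have hle : J.map (algebraMap B Bq) ≤ Module.annihilator Bq (LocalizedModule q.primeCompl N) := by
      rw [Ideal.map_le_iff_le_comap]
      intro b hb
      rw [Ideal.mem_comap, Module.mem_annihilator]
      intro y
      rw [algebraMap_smul]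
      induction y using LocalizedModule.induction_on with
      | _ m s => rw [LocalizedModule.smul'_mk, hJ b hb m, LocalizedModule.zero_mk]
    exact Module.mem_annihilator.1 (hle (hk hc)) x
  have hloc : Antitone fun i => (P i).localized' Bq q.primeCompl f :=
    fun i j hij => (Submodule.localized'gi Bq q.primeCompl f).gc.monotone_l (hP hij)
  obtain ⟨i, hi⟩ := IsArtinian.monotone_stabilizes
    ⟨fun i => OrderDual.toDual ((P i).localized' Bq q.primeCompl f), hloc⟩
  refine ⟨i, fun x hx => ?_⟩
  have he : (P i).localized' Bq q.primeCompl f = (P (i + 1)).localized' Bq q.primeCompl f :=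
    OrderDual.toDual.injective (hi (i + 1) i.le_succ)
  have hm : f x ∈ (P (i + 1)).localized' Bq q.primeCompl f :=
    he ▸ ⟨x, hx, 1, by simp⟩
  obtain ⟨y, hy, s, hys⟩ := hm
  rw [IsLocalizedModule.mk'_eq_iff, Submonoid.smul_def, ← map_smul] at hys
  obtain ⟨c, hc⟩ := (IsLocalizedModule.eq_iff_exists q.primeCompl f).1 hys
  refine ⟨(c : B) * (s : B), q.primeCompl.mul_mem c.2 s.2, ?_⟩
  rw [mul_smul]
  change ((c : B) • ((s : B) • x)) ∈ _
  rw [← Submonoid.smul_def c ((s : B) • x), ← hc]
  exact (P (i + 1)).smul_mem _ hy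

variable {B : Type u} [CommRing B] [IsLocalRing B] [IsNoetherianRing B]
  [IsAdicComplete (maximalIdeal B) B]

/-- Dual statement: a monotone chain in an Artinian module whose quotient by the bottom term is
killed by `J` stabilises at a minimal prime of `J`, up to elements outside of this prime. -/
theorem exists_smul_mem_pred {M : Type u} [AddCommGroup M] [Module B M] [IsArtinian B M]
    (J q : Ideal B) [q.IsPrime] (hq : q ∈ J.minimalPrimes) (K : ℕ → Submodule B M) (hK : Monotone K)
    (hJ : ∀ b ∈ J, ∀ x : M, b • x ∈ K 0) :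
    ∃ i : ℕ, ∃ t : B, t ∉ q ∧ ∀ x ∈ K (i + 1), t • x ∈ K i := by
  obtain ⟨E, _, _, ι, hι⟩ := Groth.Agent.InjHullLib.exists_injective_hull B (ResidueField B)
  haveI := (Groth.Agent.S0317.result B E ι hι M).1
  let ann : Submodule B M → Submodule B (M →ₗ[B] E) := fun L =>
    { carrier := {g | ∀ x ∈ L, g x = 0}
      add_mem' := fun {a b} ha hb x hx => by simp [ha x hx, hb x hx]
      zero_mem' := fun x _ => rfl
      smul_mem' := fun c a ha x hx => by simp [ha x hx] }
  have hanti : Antitone fun i => ann (K i) := fun i j hij g hg x hx => hg x (hK hij hx)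
  let N := ann (K 0)
  have hmem : ∀ i, ∀ g ∈ ann (K i), g ∈ N := fun i g hg => hanti (Nat.zero_le i) hg
  obtain ⟨i, hi⟩ := exists_smul_mem_succ (N := N) J q hq
    (fun b hb g => Subtype.ext <| LinearMap.ext fun x => by
      change b • g.1 x = 0
      rw [← map_smul]
      exact g.2 _ (hJ b hb x))
    (fun i => (ann (K i)).comap N.subtype) (fun i j hij => Submodule.comap_mono (hanti hij))
  obtain ⟨s, hs⟩ := (IsNoetherian.noetherian ((ann (K i)).comap N.subtype))
  have hst : ∀ x ∈ (s : Set N), x ∈ (ann (K i)).comap N.subtype := fun x hx => hs ▸ Submodule.subset_span hx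
  choose t ht using fun x : (s : Set N) => hi x.1 (hst x.1 x.2)
  refine ⟨i, ∏ x, t x, ?_, ?_⟩
  · intro hmem'
    obtain ⟨x, -, hx⟩ := Ideal.IsPrime.prod_mem_iff.1 hmem'
    exact (ht x).1 hx
  · intro y hy
    by_contra hne
    have hne' : (Submodule.Quotient.mk ((∏ x, t x) • y) : M ⧸ K i) ≠ 0 := by
      rwa [Ne, Submodule.Quotient.mk_eq_zero]
    obtain ⟨g, hg⟩ := Groth.Agent.InjHullLib.exists_dual_ne_zero hι hne'
    let g' : N := ⟨g.comp (K i).mkQ, hmem i _ fun x hx => by
      simp [(Submodule.Quotient.mk_eq_zero (K i)).2 hx]⟩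
    have hg' : g' ∈ (ann (K i)).comap N.subtype := fun x hx => by
      change g (Submodule.Quotient.mk x) = 0
      rw [(Submodule.Quotient.mk_eq_zero (K i)).2 hx, map_zero]
    have key : ∀ g₀ ∈ Submodule.span B (s : Set N),
        (∏ x, t x) • g₀ ∈ (ann (K (i + 1))).comap N.subtype := by
      intro g₀ hg₀
      induction hg₀ using Submodule.span_induction with
      | mem x hx =>
        classical
        rw [← Finset.prod_erase_mul _ _ (Finset.mem_univ (⟨x, hx⟩ : (s : Set N))), mul_smul]
        exact Submodule.smul_mem _ _ (ht ⟨x, hx⟩).2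
      | zero => simp
      | add a b _ _ ha hb => rw [smul_add]; exact add_mem ha hb
      | smul c a _ ha => rw [smul_comm]; exact Submodule.smul_mem _ c ha
    have h0 := key g' (hs.symm ▸ hg') y hy
    apply hg
    change (∏ x, t x) • g (Submodule.Quotient.mk y) = 0 at h0
    rw [Submodule.Quotient.mk_smul, map_smul, h0]

/-- A locally nilpotent Frobenius-semilinear endomorphism of an Artinian module over a complete
Noetherian local ring is nilpotent. -/
theorem exists_iterate_eq_zero (p : ℕ) [Fact p.Prime] [CharP B p] {M : Type u} [AddCommGroup M]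
    [Module B M] [IsArtinian B M] (φ : M →ₛₗ[frobenius B p] M)
    (hloc : ∀ x : M, ∃ n : ℕ, (⇑φ)^[n] x = 0) : ∃ n : ℕ, ∀ x : M, (⇑φ)^[n] x = 0 := by
  have hsm : ∀ (i : ℕ) (b : B) (x : M), (⇑φ)^[i] (b • x) = b ^ p ^ i • (⇑φ)^[i] x := by
    intro i
    induction i with
    | zero => intro b x; simp
    | succ i ih =>
      intro b x
      rw [Function.iterate_succ_apply', Function.iterate_succ_apply', ih, LinearMap.map_smulₛₗ,
        frobenius_def, ← pow_mul, ← pow_succ]
  let K : ℕ → Submodule B M := fun i =>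
    { carrier := {x | (⇑φ)^[i] x = 0}
      add_mem' := fun {a b} (ha : (⇑φ)^[i] a = 0) (hb : (⇑φ)^[i] b = 0) => by
        change (⇑φ)^[i] (a + b) = 0
        rw [iterate_map_add, ha, hb, add_zero]
      zero_mem' := iterate_map_zero φ i
      smul_mem' := fun c a (ha : (⇑φ)^[i] a = 0) => by
        change (⇑φ)^[i] (c • a) = 0
        rw [hsm, ha, smul_zero] }
  have hphi : ∀ i x, x ∈ K (i + 1) ↔ φ x ∈ K i := fun i x => Iff.rfl
  have hK : Monotone K := monotone_nat_of_le_succ fun i x (hx : (⇑φ)^[i] x = 0) => by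
    change (⇑φ)^[i + 1] x = 0
    rw [Function.iterate_succ_apply', hx, map_zero]
  let Ann : ℕ → Ideal B := fun i =>
    { carrier := {b | ∀ x ∈ K (i + 1), b • x ∈ K i}
      add_mem' := fun {a b} ha hb x hx => by rw [add_smul]; exact add_mem (ha x hx) (hb x hx)
      zero_mem' := fun x _ => by rw [zero_smul]; exact zero_mem _
      smul_mem' := fun c a ha x hx => by rw [smul_eq_mul, mul_smul]; exact (K i).smul_mem c (ha x hx) }
  have hp2 : 2 ≤ p := (Fact.out : p.Prime).two_le
  have hroot : ∀ i b, b ^ p ∈ Ann i → b ∈ Ann (i + 1) := fun i b hb x hx => by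
    rw [hphi, LinearMap.map_smulₛₗ, frobenius_def]
    exact hb _ ((hphi _ _).1 hx)
  have hAnn : Monotone Ann := monotone_nat_of_le_succ fun i b hb =>
    hroot i b ((Ann i).pow_mem_of_mem hb p (by omega))
  obtain ⟨n, hn⟩ := monotone_stabilizes_iff_noetherian.2 inferInstance ⟨Ann, hAnn⟩
  have hn' : ∀ j, n ≤ j → Ann j = Ann n := fun j hj => (hn j hj).symm
  have hsq : ∀ b ∈ Ann n, ∀ x : M, (b * b) • x ∈ K n := by
    intro b hb
    suffices h : ∀ j, ∀ x ∈ K j, (b * b) • x ∈ K n by
      intro x
      obtain ⟨j, hj⟩ := hloc x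
      exact h j x hj
    intro j
    induction j with
    | zero => exact fun x hx => hK (Nat.zero_le n) ((K 0).smul_mem _ hx)
    | succ j ih =>
      intro x hx
      rw [mul_smul]
      refine hb _ ((hphi n _).2 ?_)
      rw [LinearMap.map_smulₛₗ, frobenius_def]
      obtain ⟨d, hd⟩ := pow_dvd_pow b hp2
      rw [hd, sq, mul_comm, mul_smul]
      exact (K n).smul_mem d (ih _ ((hphi j x).1 hx))
  by_cases htop : Ann n = ⊤
  · refine ⟨n, fun x => ?_⟩
    have := hsq 1 (htop ▸ Submodule.mem_top) x
    rwa [mul_one, one_smul] at this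
  · exfalso
    let J : Ideal B :=
      { carrier := {b | ∀ x : M, b • x ∈ K n}
        add_mem' := fun {a b} ha hb x => by rw [add_smul]; exact add_mem (ha x) (hb x)
        zero_mem' := fun x => by rw [zero_smul]; exact zero_mem _
        smul_mem' := fun c a ha x => by rw [smul_eq_mul, mul_smul]; exact (K n).smul_mem c (ha x) }
    have hJle : J ≤ Ann n := fun b hb x _ => hb x
    obtain ⟨q, hq⟩ := Ideal.nonempty_minimalPrimes (fun h => htop (top_le_iff.1 (h ▸ hJle)))
    haveI := hq.1.1
    have hIq : Ann n ≤ q := fun b hb => (hq.1.1.mem_or_mem (hq.1.2 (hsq b hb))).elim id id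
    obtain ⟨i, t, ht, hti⟩ := exists_smul_mem_pred J q hq (fun i => K (n + i))
      (fun a b hab => hK (by omega)) (fun b hb x => hb x)
    refine ht (hIq ?_)
    rw [← hn' (n + i) (by omega)]
    exact hti

end Groth.Agent.HSL27
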